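import Groth.Agent.AlgSpDec.DecentDense
import Groth.Agent.AlgSpDec.Factor
import Groth.Agent.AlgSpDec.PointsSpectral
import Groth.Agent.AlgSpPts.Field
import Groth.Agent.CodimQf.Basic

/-!
# Spaces with a dense open subscheme with quasi-compact generic points are decent
-/

set_option autoImplicit false
set_option linter.style.haveILetI false
set_option backward.isDefEq.respectTransparency false
set_option backward.isDefEq.respectTransparency.types false

universe u

open CategoryTheory CategoryTheory.Limits AlgebraicGeometry AlgSp Groth.Agent.AlgSpLib Groth.Agent.AlgSpPts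
open Groth.Agent.EtCount (Lifts)
open Groth.Agent.AlgSpDec Topology

namespace Groth.Agent.DecGen

section top

variable {A B : Type*} [TopologicalSpace A] [TopologicalSpace B] {e : A → B}

theorem finite_components_of_dense (he : Continuous e) (hd : DenseRange e)
    (h : (irreducibleComponents A).Finite) : (irreducibleComponents B).Finite := by
  let C : Set (Set B) := (fun Z => closure (e '' Z)) '' irreducibleComponents A
  refine (h.image fun Z => closure (e '' Z)).subset fun W hW => ?_
  have hcl : ∀ c ∈ C, IsClosed c := by rintro _ ⟨Z, _, rfl⟩; exact isClosed_closure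
  have hC : C.Finite := h.image _
  have hcov : W ⊆ ⋃₀ C := fun w _ => by
    have h1 : IsClosed (⋃₀ C) := by
      rw [Set.sUnion_eq_biUnion]; exact hC.isClosed_biUnion hcl
    refine h1.closure_subset_iff.2 ?_ (hd w)
    rintro _ ⟨a, rfl⟩
    exact ⟨_, ⟨_, irreducibleComponent_mem_irreducibleComponents a, rfl⟩,
      subset_closure ⟨a, mem_irreducibleComponent, rfl⟩⟩
  obtain ⟨c, hc, hWc⟩ := isIrreducible_iff_sUnion_isClosed.1 hW.1 hC.toFinset
    (fun z hz => hcl z (hC.mem_toFinset.1 hz)) (by rw [Set.Finite.coe_toFinset]; exact hcov)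
  obtain ⟨Z, hZ, rfl⟩ := hC.mem_toFinset.1 hc
  exact ⟨Z, hZ, Set.Subset.antisymm (hW.2 (hZ.1.image e he.continuousOn).closure hWc) hWc⟩

theorem finite_components_of_isOpenEmbedding (he : IsOpenEmbedding e)
    (h : (irreducibleComponents B).Finite) : (irreducibleComponents A).Finite := by
  have key : ∀ Z ∈ irreducibleComponents A, ∃ W ∈ irreducibleComponents B, e ⁻¹' W = Z := by
    intro Z hZ
    obtain ⟨W, hW, hZW⟩ :=
      exists_mem_irreducibleComponents_subset_of_isIrreducible _ (hZ.1.image e he.continuous.continuousOn)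
    refine ⟨W, hW, Set.Subset.antisymm (hZ.2 ⟨hZ.1.nonempty.mono fun a ha => hZW ⟨a, ha, rfl⟩,
      hW.1.isPreirreducible.preimage he⟩ fun a ha => hZW ⟨a, ha, rfl⟩) fun a ha => hZW ⟨a, ha, rfl⟩⟩
  exact (h.image (e ⁻¹' ·)).subset fun Z hZ => by
    obtain ⟨W, hW, hWZ⟩ := key Z hZ
    exact ⟨W, hW, hWZ⟩

end top

variable {S : Scheme.{u}} {X : Sp S} {U : Over S} {a : (yon S).obj U ⟶ X}

/-- Over a quasi-compact point the kernel pair of a chart with quasi-compact source has finite fibres. -/
theorem finite_preimage_snd_of_qc (ha : RepWith @Etale a) [CompactSpace ↥U.left] (u : U.left)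
    {p : FieldPt X} (hp : Points.mk p = Points.ofPt a u) (hqc : RepWith @QuasiCompact p.toHom) :
    ((ha.rep.snd a).left ⁻¹' {u}).Finite := by
  have sqP := ha.rep.isPullback' p.toHom
  obtain ⟨z, hz, -⟩ := exists_ofPt_of_eq sqP (u := u) (v := IsLocalRing.closedPoint p.K)
    ((Points.ofPt_toHom p _).trans hp).symm
  let P := ha.rep.pullback p.toHom
  haveI : QuasiCompact (ha.rep.fst' p.toHom).left := hqc.property _ _ _ sqP.flip
  haveI : CompactSpace ↥P.left := QuasiCompact.compactSpace_of_compactSpace (ha.rep.fst' p.toHom).left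
  haveI : IsAffine p.pt.left := inferInstanceAs (IsAffine (Spec (CommRingCat.of p.K)))
  haveI : QuasiCompact (ha.rep.snd p.toHom).left := HasAffineProperty.iff_of_isAffine.2 ‹CompactSpace ↥P.left›
  let L : Over S := Over.mk (P.left.fromSpecResidueField z ≫ P.hom)
  let lam : L ⟶ P := Over.homMk (P.left.fromSpecResidueField z) rfl
  let g : (yon S).obj L ⟶ X := (yon S).map (lam ≫ ha.rep.fst' p.toHom) ≫ a
  have sqQ := ha.rep.isPullback' g
  haveI : Etale (ha.rep.snd g).left := ha.property_snd g
  -- the two comparison maps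
  obtain ⟨lP, hlP₁, hlP₂⟩ := sqP.exists_lift ((yon S).map (ha.rep.fst' g))
    ((yon S).map (ha.rep.snd g ≫ lam ≫ ha.rep.snd p.toHom)) (by
      rw [sqQ.w]
      simp only [g, Functor.map_comp, Category.assoc]
      rw [sqP.w])
  obtain ⟨lP', rfl⟩ := (yon S).map_surjective lP
  have hsqP : IsPullback ((yon S).map lP') ((yon S).map (ha.rep.snd g)) ((yon S).map (ha.rep.snd p.toHom))
      ((yon S).map (lam ≫ ha.rep.snd p.toHom)) := by
    refine IsPullback.of_right ?_ (by rw [hlP₂, Functor.map_comp]) sqP
    rw [hlP₁]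
    rw [show (yon S).map (lam ≫ ha.rep.snd p.toHom) ≫ p.toHom = g by simp only [g, Functor.map_comp, Category.assoc, sqP.w]]
    exact sqQ
  obtain ⟨lR, hlR₁, hlR₂⟩ := (ha.rep.isPullback' a).exists_lift ((yon S).map (ha.rep.fst' g))
    ((yon S).map (ha.rep.snd g ≫ lam ≫ ha.rep.fst' p.toHom)) (by
      rw [sqQ.w]
      simp only [g, Functor.map_comp, Category.assoc])
  obtain ⟨lR', rfl⟩ := (yon S).map_surjective lR
  have hsqR : IsPullback ((yon S).map lR') ((yon S).map (ha.rep.snd g)) ((yon S).map (ha.rep.snd a))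
      ((yon S).map (lam ≫ ha.rep.fst' p.toHom)) := by
    refine IsPullback.of_right ?_ (by rw [hlR₂, Functor.map_comp]) (ha.rep.isPullback' a)
    rw [hlR₁]
    exact sqQ
  haveI : QuasiCompact (ha.rep.snd g).left :=
    quasiCompact_isStableUnderBaseChange.of_isPullback ((hsqP.of_map_of_faithful (yon S)).map (Over.forget S))
      ‹QuasiCompact (ha.rep.snd p.toHom).left›
  haveI : Subsingleton ↥L.left := inferInstanceAs (Subsingleton ↥(Spec (P.left.residueField z)))
  have hQ : (Set.univ : Set ↥(ha.rep.pullback g).left).Finite :=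
    ((ha.rep.snd g).left.finite_preimage_singleton (IsLocalRing.closedPoint _ : ↥(Spec (P.left.residueField z)))).subset
      fun w _ => Subsingleton.elim (α := ↥L.left) _ _
  refine (hQ.image lR'.left).subset fun r hr => ?_
  obtain ⟨w, hw, -⟩ := Scheme.exists_preimage_of_isPullback
    ((hsqR.of_map_of_faithful (yon S)).map (Over.forget S)) r
    (IsLocalRing.closedPoint _ : ↥(Spec (P.left.residueField z))) (by
      show (ha.rep.snd a).left r = (lam ≫ ha.rep.fst' p.toHom).left _
      rw [hr, Over.comp_left, Scheme.Hom.comp_apply]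
      show u = (ha.rep.fst' p.toHom).left (P.left.fromSpecResidueField z _)
      rw [Scheme.fromSpecResidueField_apply, hz])
  exact ⟨w, Set.mem_univ _, hw⟩

/-- Each fibre of the kernel pair of an affine chart is finite as soon as this holds at finitely many points
generizing all points of the chart. -/
theorem finite_preimage_snd_of_specializes (ha : RepWith @Etale a) [IsAffine U.left] {f u : U.left}
    (h : f ⤳ u) (hf : ((ha.rep.snd a).left ⁻¹' {f}).Finite) : ((ha.rep.snd a).left ⁻¹' {u}).Finite := by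
  haveI : Etale (ha.rep.snd a).left := ha.property_snd a
  haveI : IsSeparated (ha.rep.snd a).left := isSeparated_snd_of_isAffine ha
  let s := (ha.rep.snd a).left
  haveI := finite_geomFiber_of_finite_preimage s hf
  let m := Nat.card ↥(MoreMor.geomFiber s f)
  have hle : ENat.card ↥(MoreMor.geomFiber s u) ≤ m := by
    by_contra hlt
    push Not at hlt
    have h1 : ((m + 1 : ℕ) : ℕ∞) ≤ ENat.card ↥(MoreMor.geomFiber s f) :=
      h.mem_open (EtCount.isOpen_le_card (m + 1) s)
        (show ((m + 1 : ℕ) : ℕ∞) ≤ _ by push_cast; exact (ENat.add_one_le_iff (ENat.coe_ne_top m)).2 hlt)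
    rw [ENat.card_eq_coe_natCard] at h1
    exact absurd (ENat.coe_le_coe.1 h1) (by omega)
  haveI : Finite (Lifts s (EtCount.geomPt u)) :=
    ENat.card_lt_top.1 (by rw [← EtCount.card_geomFiber]; exact hle.trans_lt (ENat.coe_lt_top m))
  exact (Set.finite_range fun l : Lifts s (EtCount.geomPt u) => l.1 (IsLocalRing.closedPoint _)).subset
    fun z hz => exists_lift_through s hz

theorem isDecent_of_dense_subscheme (hX : IsAlgSpace X) {T : Over S} (j : (yon S).obj T ⟶ X)
    (hj : RepWith @IsOpenImmersion j) (hd : DenseRange (Points.ofPt j))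
    (hT : (irreducibleComponents ↥T.left).Finite)
    (hq : ∀ x' : ↥T.left, (∃ Z ∈ irreducibleComponents ↥T.left, IsGenericPoint x' Z) →
      RepWith @QuasiCompact (FieldPt.ofPt j x').toHom) : IsDecent X := by
  intro x
  refine exists_rep_of_finite hX x fun U φ hU hφ R s t sq => ?_
  let G : Set ↥T.left := {x' | ∃ Z ∈ irreducibleComponents ↥T.left, IsGenericPoint x' Z}
  have hG : G.Finite := by
    refine Set.Finite.of_finite_image (f := fun x' => closure {x'}) (hT.subset ?_) ?_
    · rintro _ ⟨x', ⟨Z, hZ, hx'⟩, rfl⟩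
      show closure {x'} ∈ _
      rw [hx'.def]; exact hZ
    · exact fun a _ b _ hab => ((isGenericPoint_closure (x := a)).eq
        (show IsGenericPoint b (closure {a}) from hab.symm))
  have hGgen : ∀ t' : ↥T.left, ∃ g ∈ G, g ⤳ t' := fun t' => by
    obtain ⟨g, hg⟩ : ∃ g, IsGenericPoint g (irreducibleComponent t') :=
      ⟨_, (isIrreducible_irreducibleComponent (x := t')).isGenericPoint_genericPoint
        isClosed_irreducibleComponent⟩
    exact ⟨g, ⟨_, irreducibleComponent_mem_irreducibleComponents t', hg⟩,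
      hg.specializes mem_irreducibleComponent⟩
  -- points of the chart over the generic points
  let Fg : Set ↥U.left := ⋃ g ∈ G, Points.ofPt φ ⁻¹' {Points.ofPt j g}
  have hFg : Fg.Finite := hG.biUnion fun g hg =>
    finite_fibre_of_repWith hφ (FieldPt.ofPt j g) (hq g hg)
  have hgen : ∀ u : ↥U.left, ∃ f ∈ Fg, f ⤳ u := by
    have hO : (Points.ofPt φ ⁻¹' Set.range (Points.ofPt j)) ⊆ closure Fg := by
      rintro w ⟨t', ht'⟩
      obtain ⟨g, hg, hgt⟩ := hGgen t'
      obtain ⟨o, ho₁, ho₂⟩ := exists_ofPt_of_eq (hφ.rep.isPullback' j) (u := w) (v := t') ht'.symm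
      haveI : Etale (hφ.rep.snd j).left := hφ.property_snd j
      obtain ⟨o', ho', hog⟩ := Flat.generalizingMap (hφ.rep.snd j).left (show g ⤳ (hφ.rep.snd j).left o by
        rw [ho₂]; exact hgt)
      refine ((ho'.map (hφ.rep.fst' j).left.continuous).trans (specializes_of_eq ho₁)).mem_closed
        isClosed_closure (subset_closure (Set.mem_biUnion hg ?_))
      show Points.ofPt φ ((hφ.rep.fst' j).left o') = Points.ofPt j g
      rw [← ofPt_comp, (hφ.rep.isPullback' j).w, ofPt_comp, hog]
    intro u
    have h1 : Dense (Points.ofPt φ ⁻¹' Set.range (Points.ofPt j)) :=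
      Dense.preimage hd (isOpenMap_ofPt hφ)
    have h2 : u ∈ closure Fg := closure_minimal hO isClosed_closure (h1 u)
    rw [← Set.biUnion_of_singleton Fg, hFg.closure_biUnion, Set.mem_iUnion₂] at h2
    obtain ⟨f, hf, hfu⟩ := h2
    exact ⟨f, hf, specializes_iff_mem_closure.2 hfu⟩
  have hsnd : ∀ u : ↥U.left, ((hφ.rep.snd φ).left ⁻¹' {u}).Finite := fun u => by
    obtain ⟨f, hf, hfu⟩ := hgen u
    obtain ⟨g, hg, hfg⟩ := Set.mem_iUnion₂.1 hf
    exact finite_preimage_snd_of_specializes hφ hfu
      (finite_preimage_snd_of_qc hφ f (p := FieldPt.ofPt j g) (hfg : Points.ofPt φ f = _).symm (hq g hg))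
  have hfib : (Points.ofPt φ ⁻¹' {x}).Finite := by
    rcases Set.eq_empty_or_nonempty (Points.ofPt φ ⁻¹' {x}) with he | ⟨u, hu⟩
    · rw [he]; exact Set.finite_empty
    refine ((hsnd u).image (hφ.rep.fst' φ).left).subset fun v hv => ?_
    obtain ⟨r, hr₁, hr₂⟩ := exists_ofPt_of_eq (hφ.rep.isPullback' φ) (u := v) (v := u)
      ((hv : Points.ofPt φ v = x).trans (hu : Points.ofPt φ u = x).symm)
    exact ⟨r, hr₂, hr₁⟩
  obtain ⟨e, he⟩ := (yon S).map_surjective ((hφ.rep.isPullback' φ).lift ((yon S).map t) ((yon S).map s) sq.w)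
  have he₂ : e ≫ hφ.rep.snd φ = s := (yon S).map_injective (by
    rw [Functor.map_comp, he, (hφ.rep.isPullback' φ).lift_snd])
  have hinj : Function.Injective e.left := by
    have hiso : IsIso ((yon S).map e) := by
      rw [he, show (hφ.rep.isPullback' φ).lift ((yon S).map t) ((yon S).map s) sq.w =
        (sq.isoIsPullback _ _ (hφ.rep.isPullback' φ)).hom from (hφ.rep.isPullback' φ).hom_ext (by simp) (by simp)]
      infer_instance
    haveI : IsIso e := isIso_of_reflects_iso e (yon S)
    haveI : IsIso e.left := inferInstanceAs (IsIso ((Over.forget S).map e))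
    exact e.left.injective
  refine ((hfib.biUnion fun u _ => (hsnd u).preimage hinj.injOn)).subset fun r hr => ?_
  refine Set.mem_iUnion₂.2 ⟨s.left r, ?_, ?_⟩
  · show Points.ofPt φ (s.left r) = x
    rw [← ofPt_comp, ← sq.w]; exact hr
  · show (hφ.rep.snd φ).left (e.left r) = s.left r
    rw [← Scheme.Hom.comp_apply, ← Over.comp_left, he₂]

theorem exists_dense_subscheme_of_isDecent (X : Space S) (hX : IsDecent X.obj)
    (hfin : (irreducibleComponents (Points X.obj)).Finite) :
    ∃ (T : Over S) (j : (yon S).obj T ⟶ X.obj), RepWith @IsOpenImmersion j ∧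
      Dense (Set.range (Points.ofPt j)) ∧ (irreducibleComponents ↥T.left).Finite ∧
      ∀ x' : ↥T.left, RepWith @QuasiCompact (FieldPt.ofPt j x').toHom := by
  obtain ⟨X', j₀, hj₀, hr, hd⟩ := exists_dense_open_subscheme_of_isDecent X hX
  obtain ⟨T, ⟨r⟩⟩ := hr.has_representation
  let e : (yon S).obj T ≅ X'.obj := AlgSp.isoOfRepresentableBy r
  let j : (yon S).obj T ⟶ X.obj := e.hom ≫ j₀.hom
  have hj : RepWith @IsOpenImmersion j := repWith_comp (repWith_of_isIso _ _) hj₀
  have hemb : IsOpenEmbedding (Points.ofPt j) := by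
    have h1 : Points.ofPt j = Points.map j ∘ Points.schemeHomeo T := by
      funext t; exact Points.ofPt_eq_map_ofScheme j t
    rw [h1]
    exact (isOpenEmbedding_map' X.property hj).comp (Points.schemeHomeo T).isOpenEmbedding
  refine ⟨T, j, hj, hd.mono ?_, finite_components_of_isOpenEmbedding hemb hfin, fun x' => ?_⟩
  · rintro _ ⟨z, rfl⟩
    obtain ⟨t, ht⟩ := (Points.schemeHomeo T).surjective (Points.map e.inv z)
    refine ⟨t, (Points.ofPt_eq_map_ofScheme j t).trans ?_⟩
    change Points.map j (Points.schemeHomeo T t) = _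
    rw [ht, ← Points.map_comp, e.inv_hom_id_assoc]
  · let q := FieldPt.ofPt j x'
    obtain ⟨p, hp, hm, hqc⟩ := hX (Points.ofPt j x')
    have := hm
    obtain ⟨i, hi, -⟩ := existsUnique_factor p.toHom hqc.rep q.toHom (by
      rw [← mk_eq_ofPt, ← mk_eq_ofPt]; exact hp)
    haveI : Mono j := mono_of_openImmersion hj
    let ψ : q.pt ⟶ T := Over.homMk (T.left.fromSpecResidueField x') rfl
    haveI : Mono ψ := (Over.forget S).mono_of_mono_map (inferInstanceAs (Mono (T.left.fromSpecResidueField x')))
    haveI : Mono ((yon S).map i ≫ p.toHom) := by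
      rw [hi, show q.toHom = (yon S).map ψ ≫ j from FieldPt.toHom_ofPt j x']
      exact mono_comp _ _
    haveI : Mono ((yon S).map i) := mono_of_mono _ p.toHom
    haveI : Mono i := (yon S).mono_of_mono_map ‹_›
    haveI : Mono i.left := inferInstanceAs (Mono ((Over.forget S).map i))
    haveI : Nonempty ↥q.pt.left := ⟨IsLocalRing.closedPoint q.K⟩
    haveI : IsIso i.left := isIso_of_mono_to_field (K := p.K) i.left
    haveI : IsIso ((Over.forget S).map i) := ‹IsIso i.left›
    haveI : IsIso i := isIso_of_reflects_iso i (Over.forget S)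
    rw [← hi]
    exact MorphismProperty.RespectsIso.precomp _ _ _ hqc

end Groth.Agent.DecGen
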